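import Groth.Agent.Lib.LocInteg12.Basic
import Groth.Agent.Lib.GlueClosed13.Basic
import Mathlib.AlgebraicGeometry.SpreadingOut
import Mathlib.AlgebraicGeometry.Morphisms.Separated

/-!
# Extending a morphism from a dense part, given extensions over the local rings
-/

set_option autoImplicit false
set_option linter.style.haveILetI false
set_option backward.isDefEq.respectTransparency.types false

universe u

open CategoryTheory Limits AlgebraicGeometry TopologicalSpace

namespace Groth.Agent.NeronGlue19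

variable {Y G S P : Scheme.{u}} (f : Y ⟶ S) (q : G ⟶ S) (d : P ⟶ Y) (h : P ⟶ G)

/-- `a` extends `h` over the local ring at `y`. -/
def Compat (y : Y) (a : Spec (Y.presheaf.stalk y) ⟶ G) : Prop :=
  ∀ {T : Scheme.{u}} (t : T ⟶ Spec (Y.presheaf.stalk y)) (t' : T ⟶ P),
    t ≫ Y.fromSpecStalk y = t' ≫ d → t ≫ a = t' ≫ h

theorem isReduced_of_isDomain (hdom : ∀ y : Y, IsDomain (Y.presheaf.stalk y)) : IsReduced Y := by
  haveI : ∀ y : Y, _root_.IsReduced (Y.presheaf.stalk y) := fun y => by
    haveI := hdom y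
    infer_instance
  exact isReduced_of_isReduced_stalk Y

variable [IsLocallyNoetherian Y] [LocallyOfFiniteType q] [IsSeparated q]

/-- The extension near a point. -/
theorem exists_nhd (hdom : ∀ y : Y, IsDomain (Y.presheaf.stalk y)) (y : Y)
    (a : Spec (Y.presheaf.stalk y) ⟶ G) (ha : a ≫ q = Y.fromSpecStalk y ≫ f) (hc : Compat d h y a) :
    ∃ (W : Y.Opens) (hyW : y ∈ W) (_ : IsIntegral W.toScheme) (w : W.toScheme ⟶ G),
      w ≫ q = W.ι ≫ f ∧ W.fromSpecStalkOfMem y hyW ≫ w = a ∧
      ∀ (z : P) (t : Spec (P.residueField z) ⟶ W.toScheme),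
        t ≫ W.ι = P.fromSpecResidueField z ≫ d → d z ⤳ y → t ≫ w = P.fromSpecResidueField z ≫ h := by
  obtain ⟨U, hyU, u, hu, huq⟩ := spread_out_of_isGermInjective' f q a ha
  obtain ⟨V, hyV, hV⟩ := LocInteg12.exists_isIntegral_nhd (Y := Y) (fun y => by
    obtain ⟨V, hV, hyV, -⟩ := exists_isAffineOpen_mem_and_subset (X := Y) (x := y) (U := ⊤) trivial
    haveI : IsNoetherianRing Γ(Y, V) := IsLocallyNoetherian.component_noetherian ⟨V, hV⟩
    haveI : IsAffine (V : Scheme.{u}) := hV
    exact ⟨V, hyV, hV.isoSpec.hom.homeomorph.isInducing.noetherianSpace⟩) hdom y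
  haveI := hV
  haveI : Nonempty (U ⊓ V : Y.Opens).toScheme := ⟨⟨y, hyU, hyV⟩⟩
  haveI : IsIntegral (U ⊓ V : Y.Opens).toScheme :=
    isIntegral_of_isOpenImmersion (Y.homOfLE (inf_le_right : U ⊓ V ≤ V))
  refine ⟨U ⊓ V, ⟨hyU, hyV⟩, inferInstance, Y.homOfLE inf_le_left ≫ u, ?_, ?_, fun z t ht hz => ?_⟩
  · rw [Category.assoc, huq, Scheme.homOfLE_ι_assoc]
  · rw [hu, ← Category.assoc]
    congr 1
    rw [← cancel_mono U.ι, Category.assoc, Scheme.homOfLE_ι, Scheme.Opens.fromSpecStalkOfMem_ι,
      Scheme.Opens.fromSpecStalkOfMem_ι]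
  · -- the point factors through the local ring
    let t₀ : Spec (P.residueField z) ⟶ Spec (Y.presheaf.stalk y) :=
      Spec.map (d.residueFieldMap z) ≫ Spec.map (Y.presheaf.stalkSpecializes hz ≫ Y.residue (d z))
    have ht₀ : t₀ ≫ Y.fromSpecStalk y = P.fromSpecResidueField z ≫ d := by
      rw [Category.assoc, Spec.map_comp, Category.assoc, Scheme.SpecMap_stalkSpecializes_fromSpecStalk,
        ← Scheme.fromSpecResidueField]
      exact Scheme.Hom.SpecMap_residueFieldMap_fromSpecResidueField d z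
    have e := hc t₀ _ ht₀
    rw [← e, hu, ← Category.assoc, ← Category.assoc]
    congr 1
    rw [← cancel_mono U.ι, Category.assoc, Category.assoc, Scheme.homOfLE_ι,
      Scheme.Opens.fromSpecStalkOfMem_ι, ht, ht₀]

/-- A morphism on a dense part with compatible extensions over all local rings extends. -/
theorem exists_extend (hdom : ∀ y : Y, IsDomain (Y.presheaf.stalk y))
    (hD : ∀ ξ : Y, (∀ ζ, ζ ⤳ ξ → ζ = ξ) → ξ ∈ Set.range d)
    (a : ∀ y : Y, Spec (Y.presheaf.stalk y) ⟶ G) (ha : ∀ y, a y ≫ q = Y.fromSpecStalk y ≫ f)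
    (hc : ∀ y, Compat d h y (a y)) : ∃ g : Y ⟶ G, g ≫ q = f ∧ d ≫ g = h := by
  haveI := isReduced_of_isDomain hdom
  choose W hyW hWint w hwq hwa hwz using fun y => exists_nhd f q d h hdom y (a y) (ha y) (hc y)
  let 𝒰 := Y.openCoverOfIsOpenCover W (top_unique fun y _ => Opens.mem_iSup.2 ⟨y, hyW y⟩)
  have hagree : ∀ x y : Y, pullback.fst (W x).ι (W y).ι ≫ w x = pullback.snd (W x).ι (W y).ι ≫ w y := by
    intro x y
    haveI := hWint x
    haveI := hWint y
    haveI : IsReduced (pullback (W x).ι (W y).ι) := isReduced_of_isOpenImmersion (pullback.fst _ _)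
    let p := pullback.fst (W x).ι (W y).ι ≫ (W x).ι
    by_cases hne : Nonempty ↑(pullback (W x).ι (W y).ι)
    swap
    · haveI : IsEmpty ↑(pullback (W x).ι (W y).ι) := not_nonempty_iff.1 hne
      exact isInitialOfIsEmpty.hom_ext _ _
    obtain ⟨o⟩ := hne
    -- the common generic point
    let ξ : Y := (W x).ι (genericPoint (W x).toScheme)
    have hgx : ∀ v : (W x).toScheme, ξ ⤳ (W x).ι v := fun v =>
      ((genericPoint_spec (W x).toScheme).specializes (Set.mem_univ v)).map (W x).ι.continuous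
    have hgy : ∀ v : (W y).toScheme, (W y).ι (genericPoint (W y).toScheme) ⤳ (W y).ι v := fun v =>
      ((genericPoint_spec (W y).toScheme).specializes (Set.mem_univ v)).map (W y).ι.continuous
    have hox : (W x).ι (pullback.fst (W x).ι (W y).ι o) = p o := rfl
    have hoy : (W y).ι (pullback.snd (W x).ι (W y).ι o) = p o := by
      show _ = (pullback.fst (W x).ι (W y).ι ≫ (W x).ι) o
      rw [pullback.condition]; rfl
    have hξW : ξ ∈ W y := by
      have : ξ ⤳ p o := hox ▸ hgx _
      exact this.mem_open (W y).2 (by rw [← hoy]; exact (pullback.snd (W x).ι (W y).ι o).2)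
    have hmax : ∀ ζ, ζ ⤳ ξ → ζ = ξ := by
      intro ζ hζ
      have hζW : ζ ∈ W x := hζ.mem_open (W x).2 (genericPoint (W x).toScheme).2
      exact (hζ.antisymm (hgx ⟨ζ, hζW⟩)).eq
    obtain ⟨z, hz⟩ := hD ξ hmax
    let tx : Spec (P.residueField z) ⟶ (W x).toScheme :=
      IsOpenImmersion.lift (W x).ι (P.fromSpecResidueField z ≫ d) (by
        rintro _ ⟨e, rfl⟩
        rw [Scheme.Opens.range_ι, Scheme.Hom.comp_apply, Scheme.fromSpecResidueField_apply, hz]
        exact (genericPoint (W x).toScheme).2)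
    let ty : Spec (P.residueField z) ⟶ (W y).toScheme :=
      IsOpenImmersion.lift (W y).ι (P.fromSpecResidueField z ≫ d) (by
        rintro _ ⟨e, rfl⟩
        rw [Scheme.Opens.range_ι, Scheme.Hom.comp_apply, Scheme.fromSpecResidueField_apply, hz]
        exact hξW)
    have htx : tx ≫ (W x).ι = P.fromSpecResidueField z ≫ d := IsOpenImmersion.lift_fac _ _ _
    have hty : ty ≫ (W y).ι = P.fromSpecResidueField z ≫ d := IsOpenImmersion.lift_fac _ _ _
    let i : Spec (P.residueField z) ⟶ pullback (W x).ι (W y).ι := pullback.lift tx ty (htx.trans hty.symm)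
    have hzy : ξ ⤳ y := (hgy ⟨y, hyW y⟩).trans' (by
      have h1 : ξ ⤳ (W y).ι (genericPoint (W y).toScheme) := by
        have hg : (W y).ι (genericPoint (W y).toScheme) ∈ W x := by
          refine Specializes.mem_open ?_ (W x).2 (pullback.fst (W x).ι (W y).ι o).2
          show _ ⤳ (W x).ι (pullback.fst (W x).ι (W y).ι o)
          rw [hox, ← hoy]
          exact hgy _
        exact hgx ⟨_, hg⟩
      exact h1)
    haveI : IsDominant i := ⟨fun v => by
      have hv : i (IsLocalRing.closedPoint _) ⤳ v := by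
        rw [← p.isOpenEmbedding.isInducing.specializes_iff]
        show (i ≫ pullback.fst _ _ ≫ (W x).ι) _ ⤳ _
        rw [pullback.lift_fst_assoc, htx, Scheme.Hom.comp_apply, Scheme.fromSpecResidueField_apply, hz]
        exact hgx (pullback.fst (W x).ι (W y).ι v)
      exact hv.mem_closed isClosed_closure (subset_closure ⟨_, rfl⟩)⟩
    refine ext_of_isDominant_of_isSeparated q
      (by rw [Category.assoc, Category.assoc, hwq, hwq, pullback.condition_assoc]) i ?_
    rw [pullback.lift_fst_assoc, pullback.lift_snd_assoc,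
      hwz x z tx htx (by rw [hz]; exact hgx ⟨x, hyW x⟩), hwz y z ty hty (by rw [hz]; exact hzy)]
  refine ⟨Scheme.Cover.glueMorphisms 𝒰 w hagree, ?_, ?_⟩
  · refine Scheme.Cover.hom_ext 𝒰 _ _ fun y => ?_
    rw [← Category.assoc, Scheme.Cover.ι_glueMorphisms]
    exact hwq y
  · refine GlueClosed13.hom_ext_of_stalks _ _ fun z => ?_
    have hι : (W (d z)).ι ≫ Scheme.Cover.glueMorphisms 𝒰 w hagree = w (d z) :=
      Scheme.Cover.ι_glueMorphisms 𝒰 w hagree (d z)
    rw [← Category.assoc, ← Scheme.SpecMap_stalkMap_fromSpecStalk, Category.assoc,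
      ← Scheme.Opens.fromSpecStalkOfMem_ι (W (d z)) (d z) (hyW _), Category.assoc, hι, hwa]
    exact hc (d z) _ _ (Scheme.SpecMap_stalkMap_fromSpecStalk d)

end Groth.Agent.NeronGlue19
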