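import Groth.Agent.Lib.NeronGlue19.Basic
import Groth.Agent.Lib.AlgSpDecent.FiniteMin
import Groth.Agent.Lib.AbRigid.Epi
import Mathlib.AlgebraicGeometry.Morphisms.SchemeTheoreticallyDominant

/-!
# Extending a morphism from a schematically dense open, given extensions over the local rings
-/

set_option autoImplicit false
set_option linter.style.haveILetI false
set_option backward.isDefEq.respectTransparency.types false

universe u

open CategoryTheory Limits AlgebraicGeometry TopologicalSpace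

namespace Groth.Agent.NeronGlue19

variable {Y G S P : Scheme.{u}} (f : Y ⟶ S) (q : G ⟶ S) (d : P ⟶ Y) (h : P ⟶ G)
  [IsLocallyNoetherian Y] [LocallyOfFiniteType q] [IsSeparated q] [IsOpenImmersion d]

/-- The extension near a point, compatible on the whole of the open. -/
theorem exists_nhd_open (y : Y) (a : Spec (Y.presheaf.stalk y) ⟶ G)
    (ha : a ≫ q = Y.fromSpecStalk y ≫ f) (hc : Compat d h y a) :
    ∃ (W : Y.Opens) (_ : y ∈ W) (w : W.toScheme ⟶ G), w ≫ q = W.ι ≫ f ∧
      pullback.snd d W.ι ≫ w = pullback.fst d W.ι ≫ h := by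
  obtain ⟨U, hyU, w, hw, hwq⟩ := spread_out_of_isGermInjective' f q a ha
  haveI : IsLocallyNoetherian U.toScheme := isLocallyNoetherian_of_isOpenImmersion U.ι
  let Q := pullback d U.ι
  haveI : IsLocallyNoetherian Q := isLocallyNoetherian_of_isOpenImmersion (pullback.snd d U.ι)
  let g₁ : Q ⟶ G := pullback.snd d U.ι ≫ w
  let g₂ : Q ⟶ G := pullback.fst d U.ι ≫ h
  let C : Set Q := {v | Q.fromSpecStalk v ≫ g₁ ≠ Q.fromSpecStalk v ≫ g₂}
  have hC : IsClosed C := by
    refine isOpen_compl_iff.1 (isOpen_iff_forall_mem_open.2 fun v hv => ?_)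
    have hv' : Q.fromSpecStalk v ≫ g₁ = Q.fromSpecStalk v ≫ g₂ := not_not.1 hv
    obtain ⟨O, hvO, hO⟩ := spread_out_unique_of_isGermInjective' g₁ g₂ hv'
    refine ⟨O, fun x hx hxC => hxC ?_, O.2, hvO⟩
    rw [← Scheme.Opens.fromSpecStalkOfMem_ι O x hx, Category.assoc, Category.assoc, hO]
  let I := Scheme.IdealSheafData.vanishingIdeal (⟨C, hC⟩ : Closeds Q)
  have hr : Set.range (I.subschemeι ≫ pullback.snd d U.ι) = pullback.snd d U.ι '' C := by
    rw [Scheme.Hom.comp_base, TopCat.coe_comp, Set.range_comp, Scheme.IdealSheafData.range_subschemeι,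
      Scheme.IdealSheafData.coe_support_vanishingIdeal]
    rfl
  haveI : QuasiCompact (pullback.snd d U.ι) := inferInstance
  -- `y` is away from the bad set
  have hy : (⟨y, hyU⟩ : U.toScheme) ∉ closure (pullback.snd d U.ι '' C) := by
    intro hy
    rw [← hr] at hy
    obtain ⟨x, hx⟩ := AlgSpDecent.exists_specializes_of_mem_closure_range _ hy
    let v : Q := I.subschemeι x
    have hvC : v ∈ C := by
      have : v ∈ Set.range I.subschemeι := ⟨x, rfl⟩
      rwa [Scheme.IdealSheafData.range_subschemeι, Scheme.IdealSheafData.coe_support_vanishingIdeal] at this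
    refine hvC ?_
    have hvy : (pullback.fst d U.ι ≫ d) v ⤳ y := by
      rw [pullback.condition, Scheme.Hom.comp_apply]
      exact hx.map U.ι.continuous
    let t : Spec (Q.presheaf.stalk v) ⟶ Spec (Y.presheaf.stalk y) :=
      Spec.map ((pullback.fst d U.ι ≫ d).stalkMap v) ≫ Spec.map (Y.presheaf.stalkSpecializes hvy)
    have ht : t ≫ Y.fromSpecStalk y = (Q.fromSpecStalk v ≫ pullback.fst d U.ι) ≫ d := by
      rw [Category.assoc, Scheme.SpecMap_stalkSpecializes_fromSpecStalk,
        Scheme.SpecMap_stalkMap_fromSpecStalk, Category.assoc]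
    show Q.fromSpecStalk v ≫ pullback.snd d U.ι ≫ w = Q.fromSpecStalk v ≫ pullback.fst d U.ι ≫ h
    have e : Q.fromSpecStalk v ≫ pullback.snd d U.ι = t ≫ U.fromSpecStalkOfMem y hyU := by
      rw [← cancel_mono U.ι, Category.assoc, Category.assoc, Scheme.Opens.fromSpecStalkOfMem_ι, ht,
        Category.assoc, pullback.condition]
    rw [← Category.assoc, e, Category.assoc, ← hw, hc t _ ht, Category.assoc]
  let W₀ : U.toScheme.Opens := ⟨(closure (pullback.snd d U.ι '' C))ᶜ, isClosed_closure.isOpen_compl⟩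
  let W : Y.Opens := U.ι ''ᵁ W₀
  have hWU : W ≤ U := U.ι.image_le_opensRange W₀ |>.trans_eq (Scheme.Opens.opensRange_ι U)
  refine ⟨W, ⟨⟨y, hyU⟩, hy, rfl⟩, Y.homOfLE hWU ≫ w, by rw [Category.assoc, hwq, Scheme.homOfLE_ι_assoc], ?_⟩
  let i : pullback d W.ι ⟶ Q := pullback.lift (pullback.fst d W.ι) (pullback.snd d W.ι ≫ Y.homOfLE hWU)
    (by rw [Category.assoc, Scheme.homOfLE_ι, pullback.condition])
  show pullback.snd d W.ι ≫ Y.homOfLE hWU ≫ w = pullback.fst d W.ι ≫ h
  have e₁ : i ≫ g₁ = pullback.snd d W.ι ≫ Y.homOfLE hWU ≫ w := by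
    simp only [i, g₁, pullback.lift_snd_assoc, Category.assoc]
  have e₂ : i ≫ g₂ = pullback.fst d W.ι ≫ h := by
    simp only [i, g₂, pullback.lift_fst_assoc]
  rw [← e₁, ← e₂]
  refine GlueClosed13.hom_ext_of_stalks _ _ fun x => ?_
  have hix : Q.fromSpecStalk (i x) ≫ g₁ = Q.fromSpecStalk (i x) ≫ g₂ := by
    refine not_not.1 fun hbad => ?_
    obtain ⟨u, hu, hux⟩ : ∃ u, u ∈ W₀ ∧ U.ι u = W.ι (pullback.snd d W.ι x) := (pullback.snd d W.ι x).2
    have hui : u = pullback.snd d U.ι (i x) := by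
      apply U.ι.isOpenEmbedding.injective
      rw [hux]
      show (pullback.snd d W.ι ≫ W.ι) x = (i ≫ pullback.snd d U.ι ≫ U.ι) x
      rw [pullback.lift_snd_assoc, Category.assoc, Scheme.homOfLE_ι]
    exact hu (subset_closure ⟨i x, hbad, hui.symm⟩)
  exact (Scheme.SpecMap_stalkMap_fromSpecStalk_assoc i g₁).symm.trans
    ((congrArg (Spec.map (i.stalkMap x) ≫ ·) hix).trans (Scheme.SpecMap_stalkMap_fromSpecStalk_assoc i g₂))

/-- A morphism on a schematically dense open with compatible extensions over all local rings extends. -/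
theorem exists_extend_open [IsSchemeTheoreticallyDominant d] [QuasiCompact d]
    (a : ∀ y : Y, Spec (Y.presheaf.stalk y) ⟶ G) (ha : ∀ y, a y ≫ q = Y.fromSpecStalk y ≫ f)
    (hc : ∀ y, Compat d h y (a y)) : ∃ g : Y ⟶ G, g ≫ q = f ∧ d ≫ g = h := by
  choose W hyW w hwq hwd using fun y => exists_nhd_open f q d h y (a y) (ha y) (hc y)
  let 𝒰 := Y.openCoverOfIsOpenCover W (top_unique fun y _ => Opens.mem_iSup.2 ⟨y, hyW y⟩)
  have hagree : ∀ x y : Y, pullback.fst (W x).ι (W y).ι ≫ w x = pullback.snd (W x).ι (W y).ι ≫ w y := by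
    intro x y
    let p := pullback.fst (W x).ι (W y).ι ≫ (W x).ι
    haveI : IsSchemeTheoreticallyDominant (pullback.fst p d) := inferInstance
    refine AbRigid.eq_of_comp_eq_of_ker_eq_bot (pullback.fst p d)
      (IsSchemeTheoreticallyDominant.ker_eq_bot _) q _ _
      (by rw [Category.assoc, Category.assoc, hwq, hwq, pullback.condition_assoc]) ?_
    let jx : pullback p d ⟶ pullback d (W x).ι := pullback.lift (pullback.snd p d)
      (pullback.fst p d ≫ pullback.fst (W x).ι (W y).ι) (by rw [Category.assoc, ← pullback.condition])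
    let jy : pullback p d ⟶ pullback d (W y).ι := pullback.lift (pullback.snd p d)
      (pullback.fst p d ≫ pullback.snd (W x).ι (W y).ι) (by
        rw [Category.assoc, ← pullback.condition]
        show _ = pullback.fst p d ≫ pullback.snd (W x).ι (W y).ι ≫ (W y).ι
        rw [← pullback.condition (f := (W x).ι) (g := (W y).ι)])
    have hx := congrArg (jx ≫ ·) (hwd x)
    have hy := congrArg (jy ≫ ·) (hwd y)
    simp only [jx, jy, pullback.lift_snd_assoc, pullback.lift_fst_assoc, Category.assoc] at hx hy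
    exact hx.trans hy.symm
  refine ⟨Scheme.Cover.glueMorphisms 𝒰 w hagree, ?_, ?_⟩
  · refine Scheme.Cover.hom_ext 𝒰 _ _ fun y => ?_
    rw [← Category.assoc, Scheme.Cover.ι_glueMorphisms]
    exact hwq y
  · refine Scheme.Cover.hom_ext (𝒰.pullback₁ d) _ _ (fun y => ?_)
    have hι : (W y).ι ≫ Scheme.Cover.glueMorphisms 𝒰 w hagree = w y :=
      Scheme.Cover.ι_glueMorphisms 𝒰 w hagree y
    show pullback.fst d (W y).ι ≫ d ≫ _ = pullback.fst d (W y).ι ≫ h
    rw [pullback.condition_assoc]
    exact (congrArg (pullback.snd d (W y).ι ≫ ·) hι).trans (hwd y)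

end Groth.Agent.NeronGlue19
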