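import Groth.Agent.Lib.GrpFin20.Basic
import Groth.Prelude.Def_AlgGrp
import Mathlib.CategoryTheory.Comma.Over.Pullback
import Mathlib.AlgebraicGeometry.Morphisms.Smooth
import Mathlib.AlgebraicGeometry.Sites.Fpqc

/-!
# Extension properties and descent along smooth covers
-/

set_option autoImplicit false
set_option linter.style.haveILetI false
set_option backward.isDefEq.respectTransparency.types false

universe u

open CategoryTheory Limits AlgebraicGeometry MonoidalCategory CartesianMonoidalCategory

namespace Groth.Agent.NeronGlue19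

variable {S₀ S : Scheme.{u}} (j : S₀ ⟶ S)

/-- The restriction of `Z` to `S₀`, as an object over `S`. -/
noncomputable abbrev res (Z : Over S) : Over S := (Over.map j).obj ((Over.pullback j).obj Z)

/-- The map from the restriction. -/
noncomputable abbrev ι (Z : Over S) : res j Z ⟶ Z := (Over.mapPullbackAdj j).counit.app Z

/-- The restriction of a morphism. -/
noncomputable abbrev resMap {Z' Z : Over S} (p : Z' ⟶ Z) : res j Z' ⟶ res j Z :=
  (Over.map j).map ((Over.pullback j).map p)

@[reassoc]
theorem resMap_ι {Z' Z : Over S} (p : Z' ⟶ Z) : resMap j p ≫ ι j Z = ι j Z' ≫ p :=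
  (Over.mapPullbackAdj j).counit.naturality p

theorem homEquiv_symm_map {Z N : Over S} (g : Z ⟶ N) :
    ((Over.mapPullbackAdj j).homEquiv ((Over.pullback j).obj Z) N).symm ((Over.pullback j).map g) = ι j Z ≫ g := by
  rw [Adjunction.homEquiv_counit]
  exact (Over.mapPullbackAdj j).counit.naturality g

/-- The mapping property in terms of restriction. -/
theorem bijective_iff {Z N : Over S} :
    Function.Bijective (fun g : Z ⟶ N => (Over.pullback j).map g) ↔
      Function.Bijective (fun g : Z ⟶ N => ι j Z ≫ g) := by
  have e : (fun g : Z ⟶ N => ι j Z ≫ g) =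
      ((Over.mapPullbackAdj j).homEquiv ((Over.pullback j).obj Z) N).symm ∘
        (fun g : Z ⟶ N => (Over.pullback j).map g) := funext fun g => (homEquiv_symm_map j g).symm
  rw [e]
  exact (Equiv.comp_bijective _ _).symm

theorem surjective_resMap {Z' Z : Over S} (p : Z' ⟶ Z) [Surjective p.left] [Flat p.left]
    [LocallyOfFinitePresentation p.left] : Epi (resMap j p) := by
  have sq := GrpFin20.isPullback_map j p
  haveI : Surjective ((Over.pullback j).map p).left := MorphismProperty.of_isPullback sq ‹Surjective p.left›
  haveI : Flat ((Over.pullback j).map p).left := MorphismProperty.of_isPullback sq ‹Flat p.left›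
  haveI : LocallyOfFinitePresentation ((Over.pullback j).map p).left :=
    MorphismProperty.of_isPullback sq ‹LocallyOfFinitePresentation p.left›
  haveI : Epi (resMap j p).left := inferInstanceAs (Epi ((Over.pullback j).map p).left)
  exact Over.epi_of_epi_left _

/-- If morphisms out of smooth objects are determined over `S₀`, an extension after a smooth cover descends. -/
theorem exists_of_cover {N Z Z' : Over S} (p : Z' ⟶ Z) [Smooth p.left] [Surjective p.left] [Smooth Z.hom]
    (hinj : ∀ W : Over S, Smooth W.hom → Function.Injective (fun g : W ⟶ N => ι j W ≫ g))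
    (h : res j Z ⟶ N) (f' : Z' ⟶ N) (hf' : ι j Z' ≫ f' = resMap j p ≫ h) :
    ∃ f : Z ⟶ N, ι j Z ≫ f = h := by
  haveI : Smooth Z'.hom := by rw [← Over.w p]; infer_instance
  let W : Over S := Over.mk (pullback.fst p.left p.left ≫ Z'.hom)
  haveI : Smooth W.hom := inferInstanceAs (Smooth (pullback.fst p.left p.left ≫ Z'.hom))
  let s₁ : W ⟶ Z' := Over.homMk (pullback.fst p.left p.left) rfl
  let s₂ : W ⟶ Z' := Over.homMk (pullback.snd p.left p.left) (by
    show pullback.snd p.left p.left ≫ Z'.hom = pullback.fst p.left p.left ≫ Z'.hom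
    rw [← Over.w p, pullback.condition_assoc])
  have hs : s₁ ≫ p = s₂ ≫ p := Over.OverMorphism.ext pullback.condition
  have e : s₁ ≫ f' = s₂ ≫ f' := by
    refine hinj W inferInstance ?_
    show ι j W ≫ s₁ ≫ f' = ι j W ≫ s₂ ≫ f'
    rw [← resMap_ι_assoc, ← resMap_ι_assoc, hf', ← Category.assoc, ← Category.assoc]
    congr 1
    simp only [resMap, ← Functor.map_comp, hs]
  have hleft : ∀ {T : Scheme.{u}} (a b : T ⟶ Z'.left), a ≫ p.left = b ≫ p.left → a ≫ f'.left = b ≫ f'.left := by
    intro T a b hab
    have h1 := congrArg (fun m => pullback.lift a b hab ≫ m.left) e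
    exact ((pullback.lift_fst_assoc a b hab _).symm.trans h1).trans (pullback.lift_snd_assoc a b hab _)
  let g := EffectiveEpi.desc p.left f'.left (fun a b hab => hleft a b hab)
  have hg : p.left ≫ g = f'.left := EffectiveEpi.fac _ _ _
  let f : Z ⟶ N := Over.homMk g (by rw [← cancel_epi p.left, reassoc_of% hg, Over.w, Over.w])
  have hf : p ≫ f = f' := Over.OverMorphism.ext hg
  refine ⟨f, ?_⟩
  haveI := surjective_resMap j p
  rw [← cancel_epi (resMap j p), resMap_ι_assoc, hf, hf']

end Groth.Agent.NeronGlue19
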