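import Groth.Agent.Lib.NeronMap.Basic
import Groth.Agent.Lib.LimH13.DescendFP
import Groth.Agent.Lib.LimH13.NhdLimit
import Groth.Agent.Lib.Descend.SmoothEtale

/-!
# The Néron mapping property passes to the spectrum of a local ring of the base
-/

set_option autoImplicit false
set_option linter.style.haveILetI false
set_option linter.unusedSectionVars false
set_option backward.isDefEq.respectTransparency.types false
set_option backward.isDefEq.respectTransparency false
set_option backward.defeqAttrib.useBackward true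

universe u

open CategoryTheory Limits AlgebraicGeometry

namespace Groth.Agent.NeronGlue19.Localise

section Model

variable {I : Type u} [SmallCategory I] [IsCofiltered I] {E : I ⥤ Scheme.{u}} {e : Cone E}
  [∀ i, IsAffine (E.obj i)]

/-- A finitely presented affine scheme over an affine limit comes from an affine scheme at a stage. -/
theorem exists_affine_model (he : IsLimit e) {P : Scheme.{u}} (p : P ⟶ e.pt) [IsAffine P]
    [LocallyOfFinitePresentation p] :
    ∃ (i : I) (Pi : Scheme.{u}) (pi : Pi ⟶ E.obj i) (q : P ⟶ Pi),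
      IsAffine Pi ∧ LocallyOfFinitePresentation pi ∧ IsPullback q p pi (e.π.app i) := by
  classical
  haveI : IsAffine e.pt := Scheme.isAffine_of_isLimit e he
  haveI : ∀ {i j : I} (a : i ⟶ j), IsAffineHom (E.map a) := fun a => isAffineHom_of_isAffine _
  have hfp : p.appTop.hom.FinitePresentation :=
    (HasRingHomProperty.iff_of_isAffine (P := @LocallyOfFinitePresentation)).1 inferInstance
  let _ := p.appTop.hom.toAlgebra
  haveI : Algebra.FinitePresentation Γ(e.pt, ⊤) Γ(P, ⊤) := hfp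
  let Pr := Algebra.Presentation.ofFinitePresentation Γ(e.pt, ⊤) Γ(P, ⊤)
  choose ix tx htx using fun s : Γ(e.pt, ⊤) => exists_appTop_π_eq_of_isAffine_of_isLimit E e he s
  obtain ⟨i, hi⟩ := IsCofiltered.inf_objs_exists (Pr.finite_coeffs.toFinset.image ix)
  let _ : Algebra Γ(E.obj i, ⊤) Γ(e.pt, ⊤) := (e.π.app i).appTop.hom.toAlgebra
  let _ : Algebra Γ(E.obj i, ⊤) Γ(P, ⊤) := (p.appTop.hom.comp (e.π.app i).appTop.hom).toAlgebra
  haveI : IsScalarTower Γ(E.obj i, ⊤) Γ(e.pt, ⊤) Γ(P, ⊤) := IsScalarTower.of_algebraMap_eq fun _ => rfl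
  haveI : Pr.HasCoeffs Γ(E.obj i, ⊤) := ⟨fun x hx => by
    obtain ⟨a⟩ := hi (Finset.mem_image_of_mem ix (Pr.finite_coeffs.mem_toFinset.2 hx))
    refine ⟨(E.map a).appTop (tx x), ?_⟩
    change ((E.map a).appTop ≫ (e.π.app i).appTop) (tx x) = x
    rw [← Scheme.Hom.comp_appTop, e.w]
    exact htx x⟩
  let B₀ := Pr.ModelOfHasCoeffs Γ(E.obj i, ⊤)
  obtain ⟨g, hg⟩ := FlatH4.isPullback_of_affine p (R := Γ(E.obj i, ⊤)) (B₀ := B₀)
    (Pr.tensorModelOfHasCoeffsEquiv Γ(E.obj i, ⊤))
  let b : Spec (CommRingCat.of B₀) ⟶ Spec Γ(E.obj i, ⊤) :=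
    Spec.map (CommRingCat.ofHom (algebraMap Γ(E.obj i, ⊤) B₀))
  haveI : LocallyOfFinitePresentation b :=
    (LocallyOfFinitePresentation.SpecMap_iff _).2 (RingHom.finitePresentation_algebraMap.2 inferInstance)
  refine ⟨i, _, b ≫ (E.obj i).isoSpec.inv, g, inferInstance, inferInstance, ?_⟩
  have hsq : IsPullback (𝟙 _) b (b ≫ (E.obj i).isoSpec.inv) (E.obj i).isoSpec.inv :=
    IsPullback.of_horiz_isIso ⟨by simp⟩
  have h := hg.paste_horiz hsq
  rw [Category.comp_id] at h
  have heq : (e.pt.isoSpec.hom ≫ Spec.map (CommRingCat.ofHom (algebraMap Γ(E.obj i, ⊤) Γ(e.pt, ⊤)))) ≫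
      (E.obj i).isoSpec.inv = e.π.app i := by
    change (e.pt.isoSpec.hom ≫ Spec.map (e.π.app i).appTop) ≫ _ = _
    exact (Category.assoc _ _ _).trans ((congrArg (e.pt.isoSpec.hom ≫ ·)
      (Scheme.isoSpec_inv_naturality (X := e.pt) (Y := E.obj i) (e.π.app i))).trans (e.pt.isoSpec.hom_inv_id_assoc _))
  rwa [heq] at h

/-- A smooth affine scheme over an affine limit comes from a smooth affine scheme at a stage. -/
theorem exists_smooth_model (he : IsLimit e) {P : Scheme.{u}} (p : P ⟶ e.pt) [IsAffine P] [Smooth p] :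
    ∃ (i : I) (Pi : Scheme.{u}) (pi : Pi ⟶ E.obj i) (q : P ⟶ Pi),
      IsAffine Pi ∧ Smooth pi ∧ IsPullback q p pi (e.π.app i) := by
  obtain ⟨i, Pi, pi, q, hA, hfp, hq⟩ := exists_affine_model he p
  haveI := hA
  haveI := hfp
  haveI : ∀ k, IsAffineHom ((Descend.overT E i).app k) := fun k => isAffineHom_of_isAffine (E.map k.hom)
  let e' : Cone (Over.forget i ⋙ E) := e.whisker (Over.forget i)
  have he' : IsLimit e' := (Functor.Initial.isLimitWhiskerEquiv (Over.forget i) e).symm he
  obtain ⟨k, hk⟩ := Descend.exists_smooth_of_isAffine (t := Descend.overT E i) (f := pi) he'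
    (fun k => e.w k.hom) hq
  obtain ⟨q', -, hq'⟩ := LimH13.isPullback_map_stage k.hom hq
  haveI : IsAffine (pullback pi (E.map k.hom)) := inferInstance
  exact ⟨k.left, _, pullback.snd pi (E.map k.hom), q', inferInstance, hk, hq'⟩

end Model

variable {S : Scheme.{u}} [IsLocallyNoetherian S] (U : S.Opens) (N : Over S) [LocallyOfFinitePresentation N.hom]
  {I : Type u} [SmallCategory I] [IsCofiltered I] {D : I ⥤ Scheme.{u}} {c : Cone D}
  (j : ∀ k, D.obj k ⟶ S) (hj : ∀ {k k'} (a : k ⟶ k'), D.map a ≫ j k' = j k)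
  [∀ k, IsOpenImmersion (j k)] [∀ k, IsAffine (D.obj k)]
  (σ : c.pt ⟶ S) (hσ : ∀ k, c.π.app k ≫ j k = σ) (hc : IsLimit c)
  (hN : ∀ Y : Over S, Smooth Y.hom → NeronMap.Ext U.ι N Y)

include hj hσ hc hN

/-- The mapping property for a smooth affine scheme over the limit. -/
theorem ext_of_isAffine {P : Scheme.{u}} (p : P ⟶ c.pt) [IsAffine P] [Smooth p] :
    NeronMap.Ext U.ι N (Over.mk (p ≫ σ)) := by
  haveI : ∀ {k k' : I} (a : k ⟶ k'), IsAffineHom (D.map a) := fun a => isAffineHom_of_isAffine _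
  obtain ⟨i, Yi, yi, q, _, _, hq⟩ := exists_smooth_model hc p
  -- a smooth affine scheme over a stage, as a scheme over the base
  have hsm : ∀ {k : I} {Z : Scheme.{u}} (z : Z ⟶ D.obj k), Smooth z → Smooth (z ≫ j k) := fun z hz => by
    infer_instance
  have hcpt : ∀ {k : I} {Z : Scheme.{u}} (z : Z ⟶ D.obj k) [IsAffine Z] [Smooth z],
      CompactSpace ↥(pullback (z ≫ j k) U.ι) ∧ QuasiSeparatedSpace ↥(pullback (z ≫ j k) U.ι) := by
    intro k Z z _ _
    haveI : IsLocallyNoetherian Z := LocallyOfFiniteType.isLocallyNoetherian (z ≫ j k)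
    haveI : IsNoetherian Z := {}
    haveI : IsLocallyNoetherian (pullback (z ≫ j k) U.ι) :=
      isLocallyNoetherian_of_isOpenImmersion (pullback.fst (z ≫ j k) U.ι)
    haveI : QuasiCompact (pullback.fst (z ≫ j k) U.ι) := inferInstance
    haveI : CompactSpace ↥(pullback (z ≫ j k) U.ι) := QuasiCompact.compactSpace_of_compactSpace (pullback.fst (z ≫ j k) U.ι)
    exact ⟨inferInstance, inferInstance⟩
  obtain ⟨hXc, hXs⟩ := hcpt yi
  haveI := hXc
  haveI := hXs
  -- restriction to the open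
  let X := pullback (p ≫ σ) U.ι
  let xi : pullback (yi ≫ j i) U.ι ⟶ D.obj i := pullback.fst _ _ ≫ yi
  have hqi : q ≫ yi ≫ j i = p ≫ σ := by rw [reassoc_of% hq.w, hσ]
  let qX : X ⟶ pullback (yi ≫ j i) U.ι := pullback.lift (pullback.fst _ _ ≫ q) (pullback.snd _ _) (by
    rw [Category.assoc, hqi, pullback.condition])
  have hX : IsPullback qX (pullback.fst (p ≫ σ) U.ι ≫ p) xi (c.π.app i) := by
    have h1 : IsPullback qX (pullback.fst (p ≫ σ) U.ι) (pullback.fst (yi ≫ j i) U.ι) q := by
      refine IsPullback.of_right (h₁₂ := pullback.snd (yi ≫ j i) U.ι) (v₁₃ := U.ι) (h₂₂ := yi ≫ j i) ?_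
        (pullback.lift_fst _ _ _) (IsPullback.of_hasPullback _ _).flip
      rw [show qX ≫ pullback.snd (yi ≫ j i) U.ι = pullback.snd _ _ from pullback.lift_snd _ _ _, hqi]
      exact (IsPullback.of_hasPullback _ _).flip
    exact h1.paste_vert hq
  refine (NeronMap.ext_iff U.ι).2 fun h w => ?_
  change X ⟶ N.left at h
  change h ≫ N.hom = pullback.fst (p ≫ σ) U.ι ≫ p ≫ σ at w
  -- existence
  have hex : ∃ g : Over.mk (p ≫ σ) ⟶ N, pullback.fst (p ≫ σ) U.ι ≫ g.left = h := by
    let f : X ⟶ pullback (pullback.snd N.hom (j i)) (c.π.app i) :=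
      pullback.lift (pullback.lift h ((pullback.fst (p ≫ σ) U.ι ≫ p) ≫ c.π.app i) (by
        rw [w, Category.assoc, Category.assoc, hσ])) (pullback.fst (p ≫ σ) U.ι ≫ p) (pullback.lift_snd _ _ _)
    obtain ⟨k, φ, fk, sX, sY, hfk, hsX1, hsX2, hsY1, -, hsf⟩ := LimH13.exists_hom_descend hc i xi
      (pullback.snd N.hom (j i)) qX _ hX (pullback.fst _ (c.π.app i)) (pullback.snd _ (c.π.app i))
      (IsPullback.of_hasPullback _ _) f (pullback.lift_snd _ _ _)
    obtain ⟨q', hq'1, hq'⟩ := LimH13.isPullback_map_stage φ hq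
    let yk := pullback.snd yi (D.map φ)
    let Z : Over S := Over.mk (yk ≫ j k)
    haveI : Smooth Z.hom := hsm yk inferInstance
    have hZ1 : pullback.fst yi (D.map φ) ≫ yi ≫ j i = yk ≫ j k := by
      rw [pullback.condition_assoc, hj]
    let r : pullback Z.hom U.ι ⟶ pullback xi (D.map φ) :=
      pullback.lift (pullback.lift (pullback.fst Z.hom U.ι ≫ pullback.fst yi (D.map φ)) (pullback.snd _ _)
        (by rw [Category.assoc, hZ1]; exact pullback.condition)) (pullback.fst Z.hom U.ι ≫ yk) (by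
        rw [pullback.lift_fst_assoc, Category.assoc, Category.assoc, pullback.condition])
    have wh : (r ≫ fk ≫ pullback.fst _ _ ≫ pullback.fst N.hom (j i)) ≫ N.hom = pullback.fst Z.hom U.ι ≫ Z.hom := by
      simp only [Category.assoc, pullback.condition, pullback.condition_assoc, reassoc_of% hfk]
      rw [pullback.lift_snd_assoc, Category.assoc, hj]
      exact pullback.condition (f := Z.hom)
    obtain ⟨g, hg, -⟩ := (NeronMap.ext_iff U.ι).1 (hN Z inferInstance) _ wh
    have hq'2 : q' ≫ yk ≫ j k = p ≫ σ := by rw [reassoc_of% hq'.w, hσ]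
    refine ⟨Over.homMk (q' ≫ g.left) (by rw [Category.assoc, Over.w g]; exact hq'2), ?_⟩
    let v : X ⟶ pullback Z.hom U.ι := pullback.lift (pullback.fst _ _ ≫ q') (pullback.snd _ _) (by
      show (_ ≫ q') ≫ yk ≫ j k = _
      rw [Category.assoc, hq'2, pullback.condition])
    have hvr : v ≫ r = sX := by
      apply pullback.hom_ext
      · rw [Category.assoc, pullback.lift_fst, hsX1]
        apply pullback.hom_ext
        · simp only [v, qX, Category.assoc, pullback.lift_fst, pullback.lift_fst_assoc, hq'1]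
        · simp only [v, qX, Category.assoc, pullback.lift_snd]
      · rw [Category.assoc, pullback.lift_snd, hsX2, pullback.lift_fst_assoc, Category.assoc, hq'.w,
          Category.assoc]
    show pullback.fst (p ≫ σ) U.ι ≫ q' ≫ g.left = h
    rw [← Category.assoc, show pullback.fst (p ≫ σ) U.ι ≫ q' = v ≫ pullback.fst Z.hom U.ι from
      (pullback.lift_fst _ _ _).symm, Category.assoc]
    rw [show pullback.fst Z.hom U.ι ≫ g.left = _ from hg, ← Category.assoc v, hvr, ← Category.assoc sX, hsf,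
      Category.assoc, ← Category.assoc sY, hsY1, ← Category.assoc f, pullback.lift_fst, pullback.lift_fst]
  obtain ⟨g, hg⟩ := hex
  refine ⟨g, hg, fun g' hg' => ?_⟩
  -- uniqueness
  let NN := pullback N.hom N.hom
  let nn : NN ⟶ S := pullback.fst N.hom N.hom ≫ N.hom
  let f : P ⟶ pullback (pullback.snd nn (j i)) (c.π.app i) :=
    pullback.lift (pullback.lift (pullback.lift g'.left g.left ((Over.w g').trans (Over.w g).symm)) (p ≫ c.π.app i) (by
      rw [pullback.lift_fst_assoc, Category.assoc, hσ]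
      exact Over.w g')) p (pullback.lift_snd _ _ _)
  obtain ⟨k, φ, fk, sX, sY, hfk, hsX1, hsX2, hsY1, -, hsf⟩ := LimH13.exists_hom_descend hc i yi
    (pullback.snd nn (j i)) q p hq (pullback.fst _ (c.π.app i)) (pullback.snd _ (c.π.app i))
    (IsPullback.of_hasPullback _ _) f (pullback.lift_snd _ _ _)
  obtain ⟨q', hq'1, hq'⟩ := LimH13.isPullback_map_stage φ hq
  have hsX : sX = q' := pullback.hom_ext (hsX1.trans hq'1.symm) (hsX2.trans hq'.w.symm)
  let yk := pullback.snd yi (D.map φ)
  let a₁ := fk ≫ pullback.fst _ _ ≫ pullback.fst nn (j i) ≫ pullback.fst N.hom N.hom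
  let a₂ := fk ≫ pullback.fst _ _ ≫ pullback.fst nn (j i) ≫ pullback.snd N.hom N.hom
  have hb : ∀ {T : Scheme.{u}} (t : T ⟶ pullback (pullback.snd nn (j i)) (D.map φ)),
      t ≫ pullback.fst _ _ ≫ pullback.fst nn (j i) ≫ nn = t ≫ pullback.snd _ _ ≫ j k := fun t => by
    simp only [pullback.condition, pullback.condition_assoc, hj]
  have ha₁ : a₁ ≫ N.hom = yk ≫ j k := by
    simp only [a₁, Category.assoc]
    exact (hb fk).trans ((reassoc_of% hfk) (j k))
  have ha₂ : a₂ ≫ N.hom = yk ≫ j k := by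
    simp only [a₂, Category.assoc]
    rw [← pullback.condition (f := N.hom) (g := N.hom)]
    exact (hb fk).trans ((reassoc_of% hfk) (j k))
  have hfq : f ≫ sY ≫ pullback.fst _ _ ≫ pullback.fst nn (j i) = pullback.lift g'.left g.left ((Over.w g').trans (Over.w g).symm) := by
    rw [← Category.assoc sY, hsY1, ← Category.assoc f, pullback.lift_fst, pullback.lift_fst]
  have he₁ : q' ≫ a₁ = g'.left := by
    rw [← hsX]
    simp only [a₁]
    rw [← Category.assoc sX, hsf, Category.assoc, ← Category.assoc sY, ← Category.assoc (sY ≫ _),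
      ← Category.assoc f, Category.assoc sY, hfq, pullback.lift_fst]
  have he₂ : q' ≫ a₂ = g.left := by
    rw [← hsX]
    simp only [a₂]
    rw [← Category.assoc sX, hsf, Category.assoc, ← Category.assoc sY, ← Category.assoc (sY ≫ _),
      ← Category.assoc f, Category.assoc sY, hfq, pullback.lift_snd]
  haveI : IsAffine (pullback yi (D.map φ)) := inferInstance
  obtain ⟨hc', hs'⟩ := hcpt yk
  haveI := hc'
  haveI := hs'
  let xk : pullback (yk ≫ j k) U.ι ⟶ D.obj k := pullback.fst _ _ ≫ yk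
  let qk : X ⟶ pullback (yk ≫ j k) U.ι := pullback.lift (pullback.fst _ _ ≫ q') (pullback.snd _ _) (by
    rw [Category.assoc, reassoc_of% hq'.w, hσ, pullback.condition])
  have hXk : IsPullback qk (pullback.fst (p ≫ σ) U.ι ≫ p) xk (c.π.app k) := by
    have h1 : IsPullback qk (pullback.fst (p ≫ σ) U.ι) (pullback.fst (yk ≫ j k) U.ι) q' := by
      refine IsPullback.of_right (h₁₂ := pullback.snd (yk ≫ j k) U.ι) (v₁₃ := U.ι) (h₂₂ := yk ≫ j k) ?_
        (pullback.lift_fst _ _ _) (IsPullback.of_hasPullback _ _).flip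
      rw [show qk ≫ pullback.snd (yk ≫ j k) U.ι = pullback.snd _ _ from pullback.lift_snd _ _ _,
        reassoc_of% hq'.w, hσ]
      exact (IsPullback.of_hasPullback _ _).flip
    exact h1.paste_vert hq'
  have wa : ∀ a : pullback yi (D.map φ) ⟶ N.left, a ≫ N.hom = yk ≫ j k →
      (pullback.fst (yk ≫ j k) U.ι ≫ a) ≫ N.hom = xk ≫ j k := fun a ha => by
    rw [Category.assoc, ha]; exact (Category.assoc _ _ _).symm
  obtain ⟨l, ψ, hl⟩ := LimH13.exists_fst_comp_eq hc k xk (pullback.snd N.hom (j k)) qk _ hXk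
    (pullback.lift (pullback.fst _ _ ≫ a₁) xk (wa a₁ ha₁)) (pullback.lift (pullback.fst _ _ ≫ a₂) xk (wa a₂ ha₂))
    (pullback.lift_snd _ _ _) (pullback.lift_snd _ _ _) (by
      apply pullback.hom_ext
      · simp only [Category.assoc, pullback.lift_fst]
        rw [show qk ≫ pullback.fst (yk ≫ j k) U.ι ≫ a₁ = pullback.fst (p ≫ σ) U.ι ≫ g'.left by
            rw [pullback.lift_fst_assoc, Category.assoc, he₁],
          show qk ≫ pullback.fst (yk ≫ j k) U.ι ≫ a₂ = pullback.fst (p ≫ σ) U.ι ≫ g.left by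
            rw [pullback.lift_fst_assoc, Category.assoc, he₂]]
        exact hg'.trans hg.symm
      · simp only [Category.assoc, pullback.lift_snd])
  obtain ⟨q'', hq''1, hq''⟩ := LimH13.isPullback_map_stage ψ hq'
  let Z : Over S := Over.mk (pullback.snd yk (D.map ψ) ≫ j l)
  haveI : Smooth Z.hom := hsm (pullback.snd yk (D.map ψ)) inferInstance
  have hZ1 : pullback.fst yk (D.map ψ) ≫ yk ≫ j k = Z.hom := by
    rw [pullback.condition_assoc, hj]; rfl
  let b₁ : Z ⟶ N := Over.homMk (pullback.fst yk (D.map ψ) ≫ a₁) (by rw [Category.assoc, ha₁, hZ1])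
  let b₂ : Z ⟶ N := Over.homMk (pullback.fst yk (D.map ψ) ≫ a₂) (by rw [Category.assoc, ha₂, hZ1])
  let r : pullback Z.hom U.ι ⟶ pullback xk (D.map ψ) :=
    pullback.lift (pullback.lift (pullback.fst Z.hom U.ι ≫ pullback.fst yk (D.map ψ)) (pullback.snd _ _)
      (by rw [Category.assoc, hZ1]; exact pullback.condition))
      (pullback.fst Z.hom U.ι ≫ pullback.snd yk (D.map ψ)) (by
      rw [pullback.lift_fst_assoc, Category.assoc, Category.assoc, pullback.condition])
  have hbb : b₁ = b₂ := by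
    refine (hN Z inferInstance).1 ((NeronMap.map_eq_iff U.ι b₁ b₂).2 ?_)
    have h1 := congrArg (fun t => r ≫ t ≫ pullback.fst N.hom (j k)) hl
    simp only [r, Category.assoc, pullback.lift_fst, pullback.lift_fst_assoc] at h1
    exact h1
  ext1
  rw [← he₁, ← he₂, ← hq''1, Category.assoc, Category.assoc]
  exact congrArg (fun b : Z ⟶ N => q'' ≫ b.left) hbb

end Groth.Agent.NeronGlue19.Localise

namespace Groth.Agent.NeronGlue19.Localise

variable {S : Scheme.{u}} (U : S.Opens) (N : Over S) {C : Scheme.{u}} (σ : C ⟶ S)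

/-- Gluing the mapping property along affine covers. -/
theorem ext_of_forall_isAffine
    (haff : ∀ {P : Scheme.{u}} (p : P ⟶ C) [IsAffine P] [Smooth p], NeronMap.Ext U.ι N (Over.mk (p ≫ σ)))
    {Y : Scheme.{u}} (y : Y ⟶ C) [Smooth y] : NeronMap.Ext U.ι N (Over.mk (y ≫ σ)) := by
  let res : ∀ {W W' : Scheme.{u}} (w : W ⟶ C) (w' : W' ⟶ C) (m : W ⟶ W'), m ≫ w' = w →
      (pullback (w ≫ σ) U.ι ⟶ pullback (w' ≫ σ) U.ι) := fun w w' m e =>
    pullback.lift (pullback.fst _ _ ≫ m) (pullback.snd _ _) (by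
      rw [Category.assoc, reassoc_of% e, pullback.condition])
  have inj : ∀ {W : Scheme.{u}} (w : W ⟶ C), Smooth w → ∀ g₁ g₂ : W ⟶ N.left, g₁ ≫ N.hom = w ≫ σ →
      g₂ ≫ N.hom = w ≫ σ → pullback.fst (w ≫ σ) U.ι ≫ g₁ = pullback.fst (w ≫ σ) U.ι ≫ g₂ → g₁ = g₂ := by
    intro W w hw g₁ g₂ h₁ h₂ h
    refine Scheme.Cover.hom_ext W.affineCover _ _ fun a => ?_
    let m := W.affineCover.f a
    haveI : Smooth (m ≫ w) := inferInstance
    let b₁ : Over.mk ((m ≫ w) ≫ σ) ⟶ N := Over.homMk (m ≫ g₁) ((Category.assoc _ _ _).trans ((congrArg (m ≫ ·) h₁).trans (Category.assoc _ _ _).symm))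
    let b₂ : Over.mk ((m ≫ w) ≫ σ) ⟶ N := Over.homMk (m ≫ g₂) ((Category.assoc _ _ _).trans ((congrArg (m ≫ ·) h₂).trans (Category.assoc _ _ _).symm))
    refine congrArg CommaMorphism.left ((haff (m ≫ w)).1 ((NeronMap.map_eq_iff U.ι b₁ b₂).2 ?_))
    have h3 := congrArg (res (m ≫ w) w m rfl ≫ ·) h
    simp only [res, pullback.lift_fst_assoc, Category.assoc] at h3
    exact h3
  refine (NeronMap.ext_iff U.ι).2 fun h hw => ?_
  change pullback (y ≫ σ) U.ι ⟶ N.left at h
  change h ≫ N.hom = pullback.fst (y ≫ σ) U.ι ≫ y ≫ σ at hw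
  have hloc : ∀ a, ∃ g : Y.affineCover.X a ⟶ N.left, g ≫ N.hom = (Y.affineCover.f a ≫ y) ≫ σ ∧
      pullback.fst _ _ ≫ g = res (Y.affineCover.f a ≫ y) y (Y.affineCover.f a) rfl ≫ h := by
    intro a
    haveI : Smooth (Y.affineCover.f a ≫ y) := inferInstance
    obtain ⟨g, hg, -⟩ := (NeronMap.ext_iff U.ι).1 (haff (Y.affineCover.f a ≫ y))
      (res (Y.affineCover.f a ≫ y) y (Y.affineCover.f a) rfl ≫ h) (by
        refine (Category.assoc _ _ _).trans ((congrArg (_ ≫ ·) hw).trans ((pullback.lift_fst_assoc _ _ _ _).trans ?_))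
        simp only [Over.mk_hom, Category.assoc])
    exact ⟨g.left, Over.w g, hg⟩
  choose g hgN hg using hloc
  have hagree : ∀ a b, pullback.fst (Y.affineCover.f a) (Y.affineCover.f b) ≫ g a =
      pullback.snd (Y.affineCover.f a) (Y.affineCover.f b) ≫ g b := by
    intro a b
    let fa := pullback.fst (Y.affineCover.f a) (Y.affineCover.f b)
    let fb := pullback.snd (Y.affineCover.f a) (Y.affineCover.f b)
    have hfab : fb ≫ Y.affineCover.f b ≫ y = fa ≫ Y.affineCover.f a ≫ y := by
      rw [pullback.condition_assoc]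
    refine inj (fa ≫ Y.affineCover.f a ≫ y) inferInstance _ _ (by rw [Category.assoc, hgN]; simp [fa])
      (by rw [Category.assoc, hgN, Category.assoc, reassoc_of% hfab]; simp [fa]) ?_
    have ea := congrArg (res (fa ≫ Y.affineCover.f a ≫ y) (Y.affineCover.f a ≫ y) fa rfl ≫ ·) (hg a)
    have eb := congrArg (res (fa ≫ Y.affineCover.f a ≫ y) (Y.affineCover.f b ≫ y) fb hfab ≫ ·) (hg b)
    simp only [res, pullback.lift_fst_assoc, Category.assoc] at ea eb
    rw [ea, eb]
    refine (Category.assoc _ _ _).symm.trans ((congrArg (· ≫ h) ?_).trans (Category.assoc _ _ _))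
    apply pullback.hom_ext
    · simp only [Category.assoc, pullback.lift_fst, pullback.lift_fst_assoc]
      exact congrArg (pullback.fst (_ ≫ σ) U.ι ≫ ·) pullback.condition
    · simp only [Category.assoc, pullback.lift_snd]
  let G := Scheme.Cover.glueMorphisms Y.affineCover g hagree
  have hG : ∀ a, Y.affineCover.f a ≫ G = g a := Scheme.Cover.ι_glueMorphisms Y.affineCover g hagree
  have hGN : G ≫ N.hom = y ≫ σ := Scheme.Cover.hom_ext Y.affineCover _ _ fun a => by
    rw [reassoc_of% hG a, hgN, Category.assoc]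
  refine ⟨Over.homMk G hGN, ?_, fun g' hg' => Over.OverMorphism.ext (inj y ‹Smooth y› _ _ (Over.w g') hGN ?_)⟩
  all_goals
    have key : pullback.fst (y ≫ σ) U.ι ≫ G = h := by
      refine Scheme.Cover.hom_ext (Y.affineCover.pullback₁ (pullback.fst (y ≫ σ) U.ι)) _ _ fun a => ?_
      let m : pullback (pullback.fst (y ≫ σ) U.ι) (Y.affineCover.f a) ⟶
          pullback ((Y.affineCover.f a ≫ y) ≫ σ) U.ι :=
        pullback.lift (pullback.snd _ _) (pullback.fst _ _ ≫ pullback.snd _ _) (by
          rw [Category.assoc, Category.assoc, ← pullback.condition_assoc, pullback.condition])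
      have hm : m ≫ res (Y.affineCover.f a ≫ y) y (Y.affineCover.f a) rfl =
          pullback.fst (pullback.fst (y ≫ σ) U.ι) (Y.affineCover.f a) := by
        apply pullback.hom_ext
        · simp only [m, res, Category.assoc, pullback.lift_fst, pullback.lift_fst_assoc]
          exact pullback.condition.symm
        · simp only [m, res, Category.assoc, pullback.lift_snd]
      show pullback.fst _ _ ≫ pullback.fst (y ≫ σ) U.ι ≫ G = pullback.fst _ _ ≫ h
      rw [pullback.condition_assoc, hG, ← hm, Category.assoc, ← hg a]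
      simp only [m, pullback.lift_fst_assoc]
  · exact key
  · exact hg'.trans key.symm

end Groth.Agent.NeronGlue19.Localise
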